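import Cfsg.Agent.Lib.Lie.Over.Rigid
import Cfsg.Agent.Lib.Lie.Sz.SylowLie

/-!
Suzuki groups: an automorphism of odd order centralising a Sylow 2-subgroup is trivial.
-/

set_option autoImplicit false
set_option linter.style.haveILetI false

namespace Cfsg.Agent.Lie.Over

open Cfsg.Agent.Suz

theorem rigid_suz {F : Type*} [Field F] [Fintype F] {m : ℕ} (hS : SzField F m) :
    Rigid 2 ↥(Cfsg.Sz F m) := by
  haveI : Fact (Nat.Prime 2) := ⟨Nat.prime_two⟩
  haveI := isSimple hS
  refine rigid_of_sylow (sylowU hS) fun α n hn hα hfix => ?_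
  replace hfix : ∀ u ∈ unip hS, α u = u := hfix
  have hB : ∀ b ∈ borel m F, α b ∈ borel m F := by
    intro b hb
    rw [← normalizer_unip hS, Subgroup.mem_normalizer_iff]
    intro x
    have hbn := borel_le_normalizer hS hb
    constructor
    · intro hx
      have h1 := (Subgroup.mem_normalizer_iff.1 hbn x).1 hx
      have h2 := hfix _ h1
      rw [map_mul, map_mul, map_inv, hfix x hx] at h2
      rw [h2]; exact h1
    · intro hx
      have h1 : b⁻¹ * (α b * x * (α b)⁻¹) * b ∈ unip hS := by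
        simpa using (Subgroup.mem_normalizer_iff.1 (inv_mem hbn) _).1 hx
      have h2 := hfix _ h1
      rw [map_mul, map_mul, map_inv, hfix _ hx] at h2
      have h3 : x = b⁻¹ * (α b * x * (α b)⁻¹) * b := by rw [← h2]; group
      rw [h3]; exact h1
  set w := wS hS with hw
  have hwB : w ∉ borel m F := fun h => pt_ne hS (o := some ((0 : F), 0)) (o' := none) (Option.some_ne_none _)
    ((wS_inf hS).symm.trans h)
  have hαw : α w ∉ borel m F := by
    intro h
    have hk : ∀ k : ℕ, (α ^ (k + 1)) w ∈ borel m F := by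
      intro k
      induction k with
      | zero => simpa using h
      | succ k ih => rw [pow_succ', MulAut.mul_apply]; exact hB _ ih
    have hn0 : n ≠ 0 := fun e => hn (e ▸ dvd_zero 2)
    have := hk (n - 1)
    rw [Nat.sub_add_cancel (Nat.one_le_iff_ne_zero.2 hn0), hα] at this
    exact hwB this
  obtain ⟨a, b, k, hk, e⟩ := big_cell hS hαw
  set u := uS hS a b
  have hu : u ∈ unip hS := (mem_unip hS).2 ⟨a, b, rfl⟩
  have hiter : ∀ i : ℕ, ∃ c ∈ borel m F, (α ^ i) w = u ^ i * w * c := by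
    intro i
    induction i with
    | zero => exact ⟨1, one_mem _, by simp⟩
    | succ i ih =>
      obtain ⟨c, hc, ec⟩ := ih
      refine ⟨k * α c, mul_mem hk (hB c hc), ?_⟩
      rw [pow_succ', MulAut.mul_apply, ec, map_mul, map_mul, map_pow, hfix u hu, e, pow_succ, ← hw]
      group
  obtain ⟨c, hc, ec⟩ := hiter n
  rw [hα, MulAut.one_apply] at ec
  have hfixpt : u ^ n • pt m (some ((0 : F), 0)) = pt m (some (0, 0)) := by
    have h1 : u ^ n = w * (c⁻¹ * w⁻¹) := by
      rw [show w * (c⁻¹ * w⁻¹) = (u ^ n * w * c) * (c⁻¹ * w⁻¹) by rw [← ec]]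
      group
    rw [← wS_inf hS, smul_smul, h1, mul_assoc, mul_assoc, inv_mul_cancel, mul_one, mul_smul,
      show c⁻¹ • Cfsg.suzukiPointInfinity F = Cfsg.suzukiPointInfinity F from inv_mem hc]
  have hun : u ^ n = 1 := by
    by_contra hne
    exact Option.some_ne_none _ (eq_none_of_fix hS (Subgroup.pow_mem _ hu n) hne hfixpt)
  obtain ⟨j, hj⟩ := isPGroup_unip hS ⟨u, hu⟩
  rw [eq_one_of_coprime (x := u) (congrArg Subtype.val hj : u ^ 2 ^ j = 1) hn hun, one_mul] at e
  -- every coset is fixed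
  have hcos : ∀ g, g⁻¹ * α g ∈ borel m F := by
    intro g
    by_cases hg : g ∈ borel m F
    · exact mul_mem (inv_mem hg) (hB g hg)
    obtain ⟨a', b', k', hk', rfl⟩ := big_cell hS hg
    rw [map_mul, map_mul, hfix _ ((mem_unip hS).2 ⟨a', b', rfl⟩), e]
    have := mul_mem (mul_mem (inv_mem hk') hk) (hB k' hk')
    simpa [mul_assoc] using this
  have hcore : (borel m F).normalCore = ⊥ :=
    (IsSimpleGroup.eq_bot_or_eq_top_of_normal _ (Subgroup.normalCore_normal _)).resolve_right
      fun h => borel_ne_top hS (top_le_iff.1 (h ▸ Subgroup.normalCore_le _))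
  refine MulEquiv.ext fun g => ?_
  have hmem : g⁻¹ * α g ∈ (borel m F).normalCore := by
    intro h
    have h1 := hcos (g * h⁻¹)
    rw [map_mul] at h1
    have h2 := mul_mem h1 (inv_mem (hcos h⁻¹))
    simpa [mul_assoc] using h2
  rw [hcore, Subgroup.mem_bot, inv_mul_eq_one] at hmem
  exact hmem.symm

theorem rigid_isoSuzuki {K : Type*} [Group K] (h : Cfsg.Lie.IsoSuzuki K) : Rigid 2 K := by
  obtain ⟨F, _, _, m, hm, hcard, ⟨e⟩⟩ := h
  exact Rigid.of_equiv ((szEquiv ⟨hm, hcard⟩).trans e.symm) (rigid_suz ⟨hm, hcard⟩)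

end Cfsg.Agent.Lie.Over
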