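import Cfsg.Agent.Lib.Lie.Over.Chev
import Cfsg.Agent.Lib.Lie.Over.RigidForms
import Cfsg.Agent.Lib.Lie.Over.RigidLinear
import Cfsg.Agent.Lib.Lie.Over.RigidSz
import Cfsg.Agent.Lib.Lie.Chev.SimpleCerts
import Cfsg.Agent.Lib.Lie.Chev.TwistE6
import Cfsg.Agent.Lib.Lie.Chev.TwistD4
import Cfsg.Agent.Lib.Lie.Chev.TwistF4
import Cfsg.Agent.Lib.Lie.Chev.TwistG2
import Cfsg.Prelude.Def_EvenType
import Cfsg.Agent.S0270
import Cfsg.Agent.S0283
import Cfsg.Agent.S0295
import Cfsg.Agent.S0296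
import Cfsg.Agent.S0297

/-!
Simple groups of Lie type: an automorphism of order prime to the characteristic centralising a
Sylow subgroup of that characteristic is trivial.
-/

set_option autoImplicit false
set_option linter.unusedSectionVars false
set_option linter.style.haveILetI false
set_option maxRecDepth 8000

namespace Cfsg.Agent.Lie.Over

open Cfsg Cfsg.Lie Cfsg.Agent.Lie.Chev Cfsg.Agent.Classical Cfsg.Agent.Classical.OrthAut

variable {F : Type} [Field F] [Fintype F] {p : ℕ} [Fact p.Prime] [CharP F p]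

theorem rigid_chev {D : ChevalleyDatum} (c : CertFull D) (hrank : 0 < D.rank)
    [IsSimpleGroup ↥(D.group F)] : Rigid p ↥(D.group F) := by
  refine (chev_split c).rigid fun h => ?_
  have hm := c.xg_mem_U (F := F) (c.pos_simple hrank) 1
  have : (⟨_, c.B_le_group (Subgroup.mem_sup_left hm)⟩ : ↥(D.group F)) ∈
      (D.posUnipotent F).subgroupOf (D.group F) := hm
  rw [h, Subgroup.mem_bot] at this
  have h1 := (c.xg_eq_one_iff (c.simple_lt hrank) (1 : F)).1 (congrArg Subtype.val this)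
  exact one_ne_zero h1

theorem rigid_twist {D : ChevalleyDatum} {c : CertFull D} {T : Twist c F} (Y : Twist.Datum T)
    (hne : Y.W.Jw ≠ []) [IsSimpleGroup ↥Y.G₁] : Rigid p ↥Y.G₁ := by
  refine (twist_split Y).rigid fun h => ?_
  obtain ⟨J, hJ⟩ := List.exists_mem_of_ne_nil _ hne
  obtain ⟨x, hx, hx1⟩ := Y.exists_ne_one hJ
  have hU := c.KS_invSet_le_U (Y.W.J_spec hJ).2.1 hx.1
  have : (⟨x, Y.U_fix_le ⟨hU, hx.2⟩⟩ : ↥Y.G₁) ∈ twistU Y := hU
  rw [h, Subgroup.mem_bot] at this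
  exact hx1 (congrArg Subtype.val this)

theorem rig_g2 (h : 3 ≤ Fintype.card F) : Rigid p ↥(chevG2.group F) := by
  have hne : ∃ a : F, a ≠ 0 ∧ a ≠ 1 := by
    classical
    by_contra hcon
    push Not at hcon
    have : (Finset.univ : Finset F) ⊆ {0, 1} := fun a _ => by
      rcases eq_or_ne a 0 with rfl | ha
      · simp
      · simp [hcon a ha]
    have h2 := (Finset.card_le_card this).trans Finset.card_le_two
    rw [Finset.card_univ] at h2
    omega
  haveI := (certFullG2.simple (F := F) connG2 (perfect_of_mem (by simp) fun _ => hne)).1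
  exact rigid_chev certFullG2 (by decide +kernel)

theorem rig_f4 : Rigid p ↥(chevF4.group F) := by
  haveI := (certFullF4.simple (F := F) connF4 (certFullF4.perfect perfectF4)).1
  exact rigid_chev certFullF4 (by decide +kernel)

theorem rig_e6 : Rigid p ↥(chevE6.group F) := by
  haveI := (certFullE6.simple (F := F) connE6 (certFullE6.perfect perfectE6)).1
  exact rigid_chev certFullE6 (by decide +kernel)

theorem rig_e7 : Rigid p ↥(chevE7.group F) := by
  haveI := (certFullE7.simple (F := F) connE7 (certFullE7.perfect perfectE7)).1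
  exact rigid_chev certFullE7 (by decide +kernel)

theorem rig_e8 : Rigid p ↥(chevE8.group F) := by
  haveI := (certFullE8.simple (F := F) connE8 (certFullE8.perfect perfectE8)).1
  exact rigid_chev certFullE8 (by decide +kernel)

theorem rig_omega_odd {m : ℕ} (hm : 3 ≤ m) (hodd : Odd (Fintype.card F)) :
    Rigid p (POmega F (quadFormOdd m F)) := by
  have H := oddSpace_qfOdd (F := F) hm hodd
  haveI := Cfsg.Agent.S0295.result hodd m hm
  rw [← coe_qfOdd] at this ⊢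
  exact rigid_omega H.nd H.tri (by simp; omega)

theorem rig_omega_plus {m : ℕ} (hm : 4 ≤ m) : Rigid p (POmega F (quadFormPlus m F)) := by
  haveI := Cfsg.Agent.S0296.result (F := F) m hm
  rw [← coe_qfPlus] at this ⊢
  exact rigid_omega (nondegenerate_qfPlus m) (tri_qfPlus (by omega)) (by simp; omega)

theorem rig_omega_minus {m : ℕ} (hm : 4 ≤ m) {a b : F}
    (hab : ∀ z₁ z₂ : F, z₁ ^ 2 + a * z₁ * z₂ + b * z₂ ^ 2 = 0 → z₁ = 0 ∧ z₂ = 0) :
    Rigid p (POmega F (quadFormMinus (m - 1) F a b)) := by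
  haveI := Cfsg.Agent.S0297.result (F := F) m hm a b hab
  rw [← coe_qfMinus] at this ⊢
  exact rigid_omega (nondegenerate_qfMinus (m - 1) hab) (tri_qfMinus (by omega) a b) (by simp; omega)

theorem rig_e6_twisted {q : ℕ} (hq : IsPrimePow q) (hK : Fintype.card F = q ^ 2) :
    Rigid p ↥(twistedE6 F q) := by
  obtain ⟨f, hf⟩ := exists_qPow hq hK
  haveI : IsSimpleGroup ↥(E6.datum f hf hK).G₁ := (E6.simple f hf hK).1
  exact rigid_twist (E6.datum f hf hK) (by show orbitsE6 ≠ []; decide)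

theorem rig_d4_twisted {q : ℕ} (hq : IsPrimePow q) (hK : Fintype.card F = q ^ 3) :
    Rigid p ↥(twistedD4 F q) := by
  obtain ⟨f, hf⟩ := exists_qPow hq hK
  haveI : IsSimpleGroup ↥(D4.datum f hf hK).G₁ := (D4.simple f hf hK).1
  exact rigid_twist (D4.datum f hf hK) (by show orbitsD4 ≠ []; decide)

omit [Fact p.Prime] [CharP F p] in
theorem rig_f4_twisted {m : ℕ} (hm : 1 ≤ m) (hK : Fintype.card F = 2 ^ (2 * m + 1)) :
    Rigid 2 ↥(twistedF4 F (2 ^ m)) := by
  haveI : Fact (Nat.Prime 2) := ⟨Nat.prime_two⟩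
  obtain ⟨_, _, f, hf⟩ := exists_isoFrob Nat.prime_two hK
  haveI : IsSimpleGroup ↥(F4.datum f hf hK).G₁ := (F4.simple f hf hK hm).1
  exact rigid_twist (F4.datum f hf hK) (by show orbitsF4 ≠ []; decide)

omit [Fact p.Prime] [CharP F p] in
theorem rig_g2_twisted {m : ℕ} (hm : 1 ≤ m) (hK : Fintype.card F = 3 ^ (2 * m + 1)) :
    Rigid 3 ↥(twistedG2 F (3 ^ m)) := by
  haveI : Fact (Nat.Prime 3) := ⟨Nat.prime_three⟩
  obtain ⟨_, _, f, hf⟩ := exists_isoFrob Nat.prime_three hK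
  haveI : IsSimpleGroup ↥(G2.datum f hf hK).G₁ := (G2.simple f hf hK hm).1
  exact rigid_twist (G2.datum f hf hK) (by show orbitsG2 ≠ []; decide)

/-- The theorem. -/
theorem rigid_of_lieTypeChar {K : Type*} [Group K] {p : ℕ} [Fact p.Prime]
    (h : IsLieTypeChar p K) : Rigid p K := by
  rcases h with ⟨F, _, _, _, n, hn, h24, ⟨e⟩⟩ | ⟨F, _, _, _, m, hm, h23, ⟨e⟩⟩ |
    ⟨F, _, _, _, n, q, hF, hn, hn2, ⟨e⟩⟩ | ⟨F, _, _, _, m, hm, hodd, ⟨e⟩⟩ | ⟨F, _, _, _, m, hm, ⟨e⟩⟩ |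
    ⟨F, _, _, _, m, a, b, hm, hab, ⟨e⟩⟩ | ⟨F, _, _, _, he⟩ | ⟨F, _, _, _, q, hq, he⟩ |
    ⟨rfl, hs⟩ | ⟨rfl, F, _, _, m, hm, hK, ⟨e⟩⟩ | ⟨rfl, F, _, _, m, hm, hK, ⟨e⟩⟩
  · exact Rigid.of_equiv e.symm (rigid_psl hn h24)
  · haveI := Cfsg.Agent.S0270.result (F := F) m hm h23
    exact Rigid.of_equiv e.symm (rigid_psp (by omega))
  · haveI := Cfsg.Agent.S0283.result hF n hn hn2
    exact Rigid.of_equiv e.symm (rigid_psu hF hn)
  · exact Rigid.of_equiv e.symm (rig_omega_odd hm hodd)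
  · exact Rigid.of_equiv e.symm (rig_omega_plus hm)
  · exact Rigid.of_equiv e.symm (rig_omega_minus hm hab)
  · rcases he with ⟨h3, ⟨e⟩⟩ | ⟨⟨e⟩⟩ | ⟨⟨e⟩⟩ | ⟨⟨e⟩⟩ | ⟨⟨e⟩⟩
    · exact Rigid.of_equiv e.symm (rig_g2 h3)
    · exact Rigid.of_equiv e.symm rig_f4
    · exact Rigid.of_equiv e.symm rig_e6
    · exact Rigid.of_equiv e.symm rig_e7
    · exact Rigid.of_equiv e.symm rig_e8
  · rcases he with ⟨hK, ⟨e⟩⟩ | ⟨hK, ⟨e⟩⟩
    · exact Rigid.of_equiv e.symm (rig_e6_twisted hq hK)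
    · exact Rigid.of_equiv e.symm (rig_d4_twisted hq hK)
  · exact rigid_isoSuzuki hs
  · exact Rigid.of_equiv e.symm (rig_f4_twisted hm hK)
  · exact Rigid.of_equiv e.symm (rig_g2_twisted hm hK)

end Cfsg.Agent.Lie.Over
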